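import Groth.Prelude.Def_W4c6katofiltaWFil
import Mathlib.FieldTheory.IsAlgClosed.AlgebraicClosure
import Mathlib.RingTheory.IntegralClosure.IntegrallyClosed
import Mathlib.RingTheory.IntegralClosure.IsIntegralClosure.Basic
import Mathlib.RingTheory.Localization.FractionRing
import Mathlib.RingTheory.Polynomial.RationalRoot

/-!
# Membership in the filtered pieces of Witt vectors through integral closures
-/

set_option autoImplicit false
universe u v

namespace Groth.Agent.WittFilLib

open WittVector

variable (p : ℕ) [hp : Fact p.Prime]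

section teich

variable {R : Type u} [CommRing R]

private theorem teichmuller_mul_coeff_of_invertible [Invertible (p : R)] (t : R) (x : WittVector p R) :
    teichmuller p t * x = WittVector.mk p (fun i => t ^ p ^ i * x.coeff i) := by
  apply (WittVector.ghostMap.bijective_of_invertible p R).1
  rw [map_mul]
  funext n
  rw [Pi.mul_apply, ghostMap_apply, ghostMap_apply, ghostMap_apply, ghostComponent_teichmuller,
    ghostComponent_apply, ghostComponent_apply, aeval_wittPolynomial, aeval_wittPolynomial, Finset.mul_sum]
  refine Finset.sum_congr rfl fun i hi => ?_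
  have hin : i ≤ n := Nat.lt_succ_iff.1 (Finset.mem_range.1 hi)
  rw [WittVector.coeff_mk, mul_pow, ← pow_mul, ← pow_add, Nat.add_sub_cancel' hin]
  ring

/-- The coefficients of a product with a Teichmüller representative. -/
theorem teichmuller_mul_coeff (t : R) (x : WittVector p R) (i : ℕ) :
    (teichmuller p t * x).coeff i = t ^ p ^ i * x.coeff i := by
  let φ : MvPolynomial (Option ℕ) ℤ →+* R :=
    MvPolynomial.eval₂Hom (Int.castRingHom R) (fun o => o.elim t x.coeff)
  let T : MvPolynomial (Option ℕ) ℤ := MvPolynomial.X none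
  let X' : WittVector p (MvPolynomial (Option ℕ) ℤ) := WittVector.mk p fun i => MvPolynomial.X (some i)
  have key : teichmuller p T * X' = WittVector.mk p (fun i => T ^ p ^ i * X'.coeff i) := by
    let j : MvPolynomial (Option ℕ) ℤ →+* MvPolynomial (Option ℕ) ℚ := MvPolynomial.map (Int.castRingHom ℚ)
    have hj : Function.Injective j := MvPolynomial.map_injective _ Int.cast_injective
    apply WittVector.map_injective j hj
    have : Invertible (p : MvPolynomial (Option ℕ) ℚ) := by
      letI : Invertible (p : ℚ) := invertibleOfNonzero (by exact_mod_cast hp.out.ne_zero)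
      refine Invertible.copy (Invertible.map (MvPolynomial.C : ℚ →+* _) (p : ℚ)) _ ?_
      simp
    rw [map_mul, map_teichmuller, teichmuller_mul_coeff_of_invertible]
    ext n
    simp [map_coeff]
  have := congrArg (fun w => (WittVector.map φ w).coeff i) key
  simp only [map_mul, map_teichmuller, map_coeff, WittVector.coeff_mk, map_pow] at this
  have hx : WittVector.map φ X' = x := by
    ext n
    simp [map_coeff, φ, X']
  rw [hx] at this
  simpa [φ, T, X'] using this

/-- A property of coefficients (belonging to a subring) is preserved by the operations. -/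
theorem coeff_mem_sub (S : Subring R) {x y : WittVector p R} (hx : ∀ i, x.coeff i ∈ S)
    (hy : ∀ i, y.coeff i ∈ S) (i : ℕ) : (x - y).coeff i ∈ S ∧ (x * y).coeff i ∈ S := by
  have ex : x = WittVector.map S.subtype (WittVector.mk p fun i => ⟨x.coeff i, hx i⟩) := by
    ext n; simp [map_coeff]
  have ey : y = WittVector.map S.subtype (WittVector.mk p fun i => ⟨y.coeff i, hy i⟩) := by
    ext n; simp [map_coeff]
  rw [ex, ey, ← map_sub, ← map_mul, map_coeff, map_coeff]
  exact ⟨SetLike.coe_mem _, SetLike.coe_mem _⟩

end teich

variable {A B : Type u} [CommRing A] [IsDomain A] [CommRing B] [Algebra A B]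

local notation "L" => AlgebraicClosure (FractionRing A)

variable (m : ℕ) (φ : B →ₐ[A] FractionRing A)

noncomputable def toL : B →+* L := (algebraMap (FractionRing A) L).comp φ.toRingHom

/-- The chosen root of `c`. -/
noncomputable def root (c : B) : L :=
  (IsAlgClosed.exists_pow_nat_eq (toL φ c) (pow_pos hp.out.pos (m - 1))).choose

theorem root_pow (c : B) : root p m φ c ^ p ^ (m - 1) = toL φ c :=
  (IsAlgClosed.exists_pow_nat_eq (toL φ c) (pow_pos hp.out.pos (m - 1))).choose_spec

theorem scaled_mem {c : B} {a : TruncatedWittVector p m B} (ha : a ∈ WittFil.fil p m (A := A) c)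
    (t : L) (ht : t ^ p ^ (m - 1) = toL φ c) (i : ℕ) :
    (teichmuller p t * WittVector.map (toL φ) a.out).coeff i ∈ (integralClosure A L).toSubring := by
  rw [teichmuller_mul_coeff, map_coeff]
  by_cases hi : i < m
  · rw [show a.out.coeff i = a.coeff ⟨i, hi⟩ from TruncatedWittVector.coeff_out a ⟨i, hi⟩]
    obtain ⟨z, hz⟩ := ha ⟨i, hi⟩
    refine IsIntegral.of_pow (pow_pos hp.out.pos (m - 1 - i)) ?_
    rw [mul_pow, ← pow_mul, ← pow_add, show i + (m - 1 - i) = m - 1 by omega, ht, ← map_pow, ← map_mul,
      mul_comm c, ← hz]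
    show IsIntegral A (algebraMap (FractionRing A) L (φ (algebraMap A B z)))
    rw [AlgHom.commutes, ← IsScalarTower.algebraMap_apply]
    exact isIntegral_algebraMap
  · have h0 : a.out.coeff i = 0 := by
      simp [TruncatedWittVector.out, hi]
    rw [h0, map_zero, mul_zero]
    exact zero_mem _

theorem isIntegral_toL_iff (hφ : Function.Injective φ) (b : B) : IsIntegral A (toL φ b) ↔ IsIntegral A b :=
  isIntegral_algHom_iff ((IsScalarTower.toAlgHom A (FractionRing A) L).comp φ)
    ((algebraMap (FractionRing A) L).injective.comp hφ)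

theorem mem_of_scaled' (hφ : Function.Injective φ)
    (hcl : ∀ b : B, IsIntegral A b → b ∈ (algebraMap A B).range) {c : B} (z : WittVector p B) (t : L)
    (ht : t ^ p ^ (m - 1) = toL φ c)
    (h : ∀ i, (teichmuller p t * WittVector.map (toL φ) z).coeff i ∈ (integralClosure A L).toSubring) :
    WittVector.truncate m z ∈ WittFil.fil p m (A := A) c := by
  intro j
  rw [WittVector.coeff_truncate]
  refine hcl _ ((isIntegral_toL_iff φ hφ _).1 ?_)
  have hj := h j
  rw [teichmuller_mul_coeff, map_coeff] at hj
  have h2 : IsIntegral A ((t ^ p ^ (j : ℕ) * toL φ (z.coeff j)) ^ p ^ (m - 1 - (j : ℕ))) := IsIntegral.pow hj _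
  rw [mul_pow, ← pow_mul, ← pow_add, show (j : ℕ) + (m - 1 - (j : ℕ)) = m - 1 by omega, ht, ← map_pow,
    ← map_mul, mul_comm c] at h2
  exact h2

omit hp in
/-- An integrally closed domain is integrally closed in each subalgebra of its fraction field. -/
theorem closed_of_isIntegrallyClosed [IsIntegrallyClosed A] (hφ : Function.Injective φ) (b : B)
    (hb : IsIntegral A b) : b ∈ (algebraMap A B).range := by
  obtain ⟨w, hw⟩ := IsIntegrallyClosed.isIntegral_iff.1 (hb.map φ)
  exact ⟨w, hφ (by rw [AlgHom.commutes]; exact hw)⟩

/-- Closure under subtraction. -/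
theorem sub_mem [IsIntegrallyClosed A] (hφ : Function.Injective φ) (c : B) {a b : TruncatedWittVector p m B}
    (ha : a ∈ WittFil.fil p m (A := A) c) (hb : b ∈ WittFil.fil p m (A := A) c) :
    a - b ∈ WittFil.fil p m (A := A) c := by
  rw [show a - b = WittVector.truncate m (a.out - b.out) by
    rw [map_sub]; congr 1 <;> exact (TruncatedWittVector.truncateFun_out _).symm]
  refine mem_of_scaled' p m φ hφ (closed_of_isIntegrallyClosed φ hφ) _ (root p m φ c) (root_pow p m φ c) fun i => ?_
  rw [map_sub, mul_sub]
  exact (coeff_mem_sub p _ (scaled_mem p m φ ha _ (root_pow p m φ c))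
    (scaled_mem p m φ hb _ (root_pow p m φ c)) i).1

/-- Products. -/
theorem mul_mem [IsIntegrallyClosed A] (hφ : Function.Injective φ) (c d : B) {a b : TruncatedWittVector p m B}
    (ha : a ∈ WittFil.fil p m (A := A) c) (hb : b ∈ WittFil.fil p m (A := A) d) :
    a * b ∈ WittFil.fil p m (A := A) (c * d) := by
  rw [show a * b = WittVector.truncate m (a.out * b.out) by
    rw [map_mul]; congr 1 <;> exact (TruncatedWittVector.truncateFun_out _).symm]
  refine mem_of_scaled' p m φ hφ (closed_of_isIntegrallyClosed φ hφ) _ (root p m φ c * root p m φ d)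
    (by rw [mul_pow, root_pow, root_pow, map_mul]) fun i => ?_
  rw [map_mul, map_mul, mul_mul_mul_comm]
  exact (coeff_mem_sub p _ (scaled_mem p m φ ha _ (root_pow p m φ c))
    (scaled_mem p m φ hb _ (root_pow p m φ d)) i).2

omit hp in
/-- An away-localisation at a non-zero element embeds in the fraction field. -/
theorem exists_embedding (f : A) (hf : f ≠ 0) [IsLocalization.Away f B] :
    ∃ φ : B →ₐ[A] FractionRing A, Function.Injective φ := by
  have hle : Submonoid.powers f ≤ nonZeroDivisors A :=
    powers_le_nonZeroDivisors_of_noZeroDivisors hf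
  refine ⟨IsLocalization.liftAlgHom (M := Submonoid.powers f) (f := Algebra.ofId A (FractionRing A))
    (fun y => IsLocalization.map_units (FractionRing A) (⟨y, hle y.2⟩ : nonZeroDivisors A)), ?_⟩
  rw [injective_iff_map_eq_zero]
  intro b hb
  obtain ⟨⟨a, s⟩, hs⟩ := IsLocalization.surj (Submonoid.powers f) b
  dsimp only at hs
  refine ((IsLocalization.map_units B s).mul_left_eq_zero).1 ?_
  rw [hs]
  have := congrArg (IsLocalization.liftAlgHom (M := Submonoid.powers f) (f := Algebra.ofId A (FractionRing A))
    (fun y => IsLocalization.map_units (FractionRing A) (⟨y, hle y.2⟩ : nonZeroDivisors A))) hs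
  rw [map_mul, hb, zero_mul, AlgHom.commutes] at this
  rw [(IsFractionRing.to_map_eq_zero_iff.1 this.symm : a = 0), map_zero]

end Groth.Agent.WittFilLib
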