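import Groth.Agent.WittFilLib.Basic
import Mathlib.RingTheory.UniqueFactorizationDomain.GCDMonoid
import Mathlib.Algebra.CharP.Algebra
import Mathlib.RingTheory.PowerSeries.Inverse
import Mathlib.RingTheory.WittVector.Identities

/-!
# Valuation lemmas and congruences for the filtered pieces of Witt vectors
-/

set_option autoImplicit false
universe u

namespace Groth.Agent.WittFilLib

open WittVector

section zmon
variable {B : Type u} [CommRing B] {r : ℕ} (u : Fin r → Bˣ)

theorem zmon_add (n n' : Fin r → ℤ) : WittFil.zmon u (n + n') = WittFil.zmon u n * WittFil.zmon u n' := by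
  simp only [WittFil.zmon, ← Units.val_mul, ← Finset.prod_mul_distrib, ← zpow_add, Pi.add_apply]

theorem zmon_pow (n : Fin r → ℤ) (k : ℕ) : WittFil.zmon u n ^ k = WittFil.zmon u (fun i => n i * (k : ℤ)) := by
  simp only [WittFil.zmon, ← Units.val_pow_eq_pow_val, ← Finset.prod_pow, zpow_mul, zpow_natCast]

variable {A : Type u} [CommRing A] [Algebra A B] (x : Fin r → A) (hu : ∀ i, (u i : B) = algebraMap A B (x i))

include hu in
theorem zmon_nonneg (n : Fin r → ℤ) (hn : ∀ i, 0 ≤ n i) :
    WittFil.zmon u n = algebraMap A B (∏ i, x i ^ (n i).toNat) := by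
  simp only [WittFil.zmon, Units.coe_prod, map_prod, map_pow, ← hu]
  refine Finset.prod_congr rfl fun i _ => ?_
  conv_lhs => rw [← Int.toNat_of_nonneg (hn i), zpow_natCast, Units.val_pow_eq_pow_val]

include hu in
theorem zmon_pos (n : Fin r → ℤ) (hn : ∀ i, 1 ≤ n i) :
    ∃ a : A, WittFil.zmon u n = algebraMap A B ((∏ i, x i) * a) := by
  refine ⟨∏ i, x i ^ (n i - 1).toNat, ?_⟩
  rw [zmon_nonneg u x hu n (fun i => by have := hn i; omega), ← Finset.prod_mul_distrib]
  congr 1
  refine Finset.prod_congr rfl fun i _ => ?_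
  rw [← pow_succ']
  congr 1
  have := hn i
  omega

include hu in
theorem zmon_one : WittFil.zmon u (fun _ => 1) = algebraMap A B (∏ i, x i) := by
  rw [zmon_nonneg u x hu _ (fun _ => zero_le_one)]
  simp

end zmon

section primes
variable {A B : Type u} [CommRing A] [IsDomain A] [CommRing B] [Algebra A B] (hinj : Function.Injective (algebraMap A B))
  (hcl : ∀ b : B, IsIntegral A b → b ∈ (algebraMap A B).range)

include hcl in
omit [IsDomain A] in
theorem mem_of_pow_mem {N : ℕ} (hN : 0 < N) {z : B} (h : z ^ N ∈ (algebraMap A B).range) :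
    z ∈ (algebraMap A B).range := by
  obtain ⟨a, ha⟩ := h
  exact hcl z (IsIntegral.of_pow hN (ha ▸ isIntegral_algebraMap))

variable {r : ℕ} (x : Fin r → A) (hx : ∀ i, Prime (x i)) (hxa : ∀ i j, Associated (x i) (x j) → i = j)

include hinj hcl hx hxa in
/-- If a power of `z` is divisible by the product of the primes, so is `z`. -/
theorem exists_mul_of_pow {N : ℕ} (hN : 0 < N) {z : B} {b : A}
    (h : z ^ N = algebraMap A B ((∏ i, x i) * b)) : ∃ a : A, z = algebraMap A B ((∏ i, x i) * a) := by
  obtain ⟨w, rfl⟩ := mem_of_pow_mem hcl hN ⟨_, h.symm⟩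
  rw [← map_pow] at h
  have hd : ∀ s : Finset (Fin r), (∏ i ∈ s, x i) ∣ w := by
    intro s
    induction s using Finset.induction_on with
    | empty => simp
    | @insert i s hi ih =>
      obtain ⟨c, hc⟩ := ih
      rw [Finset.prod_insert hi, hc, mul_comm (x i)]
      refine mul_dvd_mul_left _ ?_
      have hdw : x i ∣ w := (hx i).dvd_of_dvd_pow
        ((Finset.dvd_prod_of_mem x (Finset.mem_univ i)).trans ⟨b, hinj h⟩)
      rw [hc] at hdw
      refine ((hx i).dvd_or_dvd hdw).resolve_left fun hd => ?_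
      obtain ⟨j, hj, hij⟩ := ((hx i).dvd_finsetProd_iff _).1 hd
      exact hi ((hxa i j ((hx i).associated_of_dvd (hx j) hij)) ▸ hj)
  obtain ⟨a, ha⟩ := hd Finset.univ
  exact ⟨a, by rw [ha]⟩

variable (u : Fin r → Bˣ) (hu : ∀ i, (u i : B) = algebraMap A B (x i))

include hinj hcl hx hxa hu in
/-- `z ^ q * u^n ∈ A` forces `z * u^⌊n/q⌋ ∈ A`. -/
theorem mul_zmon_div_mem {q : ℕ} (hq : 0 < q) {z : B} {n : Fin r → ℤ}
    (h : z ^ q * WittFil.zmon u n ∈ (algebraMap A B).range) :
    z * WittFil.zmon u (fun i => n i / (q : ℤ)) ∈ (algebraMap A B).range := by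
  obtain ⟨a₀, ha₀⟩ := h
  obtain ⟨e, he⟩ := zmon_pos u x hu (fun i => (n i / (q : ℤ) + 1) * (q : ℤ) - n i) (fun i => by
    have := Int.lt_ediv_add_one_mul_self (n i) (b := (q : ℤ)) (by omega)
    omega)
  have h2 : (z * WittFil.zmon u (fun i => n i / (q : ℤ) + 1)) ^ q = algebraMap A B ((∏ i, x i) * (a₀ * e)) := by
    rw [mul_pow, zmon_pow, show (fun i => (n i / (q : ℤ) + 1) * (q : ℤ)) =
        n + fun i => ((n i / (q : ℤ) + 1) * (q : ℤ) - n i) from funext fun i => by simp,
      zmon_add, ← mul_assoc, ← ha₀, he, ← map_mul, mul_left_comm]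
  obtain ⟨a, ha⟩ := exists_mul_of_pow hinj hcl x hx hxa hq h2
  rw [show (fun i => n i / (q : ℤ) + 1) = (fun i => n i / (q : ℤ)) + fun _ => 1 from rfl, zmon_add,
    zmon_one u x hu, ← mul_assoc, map_mul, mul_comm (algebraMap A B (∏ i, x i))] at ha
  refine ⟨a, ?_⟩
  have hunit : IsUnit (algebraMap A B (∏ i, x i)) := zmon_one u x hu ▸ Units.isUnit _
  exact (hunit.mul_left_inj.1 ha).symm

include hinj hcl hx hxa hu in
/-- The form of the previous lemma keeping track of the remainder. -/
theorem pow_mul_mem_mul_prod {q : ℕ} (hq : 0 < q) {z : B} {n : Fin r → ℤ}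
    (h : z ^ q * WittFil.zmon u n ∈ (algebraMap A B).range) (hn : ∀ i, ¬ (q : ℤ) ∣ n i) :
    ∃ a : A, z ^ q * WittFil.zmon u n = algebraMap A B ((∏ i, x i) * a) := by
  obtain ⟨a₀, ha₀⟩ := mul_zmon_div_mem hinj hcl x hx hxa u hu hq h
  obtain ⟨e, he⟩ := zmon_pos u x hu (fun i => n i - n i / (q : ℤ) * (q : ℤ)) (fun i => by
    have h1 := Int.ediv_mul_le (n i) (b := (q : ℤ)) (by omega)
    have h2 : n i / (q : ℤ) * (q : ℤ) ≠ n i := fun h => hn i ⟨n i / (q : ℤ), by rw [mul_comm]; exact h.symm⟩
    omega)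
  refine ⟨a₀ ^ q * e, ?_⟩
  conv_lhs => rw [show n = (fun i => n i / (q : ℤ) * (q : ℤ)) + fun i => (n i - n i / (q : ℤ) * (q : ℤ)) from
    funext fun i => by simp, zmon_add, ← zmon_pow, ← mul_assoc, ← mul_pow, ← ha₀, he, ← map_pow, ← map_mul,
    mul_left_comm]

end primes

section Congr
variable (p : ℕ) [hp : Fact p.Prime] {A B : Type u} [CommRing A] [IsDomain A] [CharP A p] [CommRing B]
  [Algebra A B] (m : ℕ) (φ : B →ₐ[A] FractionRing A)

/-- Congruent coordinates modulo a prime give a difference one step further in the filtration. -/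
theorem sub_mem_of_congr (hφ : Function.Injective φ)
    (hcl : ∀ b : B, IsIntegral A b → b ∈ (algebraMap A B).range) {π : A} (hπ : Prime π) (u : Bˣ)
    (hu : (u : B) = algebraMap A B π) (c : B) {a b : TruncatedWittVector p m B}
    (ha : a ∈ WittFil.fil p m (A := A) c) (hb : b ∈ WittFil.fil p m (A := A) c)
    (h : ∀ j : Fin m, ∃ w : A, a.coeff j ^ p ^ (m - 1 - (j : ℕ)) * c - b.coeff j ^ p ^ (m - 1 - (j : ℕ)) * c =
      algebraMap A B (π * w)) :
    a - b ∈ WittFil.fil p m (A := A) (c * ((u⁻¹ : Bˣ) : B)) := by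
  classical
  let L := AlgebraicClosure (FractionRing A)
  have hALinj : Function.Injective (algebraMap A L) := by
    rw [IsScalarTower.algebraMap_eq A (FractionRing A) L]
    exact (algebraMap (FractionRing A) L).injective.comp (IsFractionRing.injective A (FractionRing A))
  have hLp : CharP L p := charP_of_injective_algebraMap hALinj p
  let O := (integralClosure A L).toSubring
  let P : Ideal O := (Ideal.span {(⟨algebraMap A L π, isIntegral_algebraMap⟩ : O)}).radical
  let t := root p m φ c
  have ht := root_pow p m φ c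
  let X : WittVector p O := WittVector.mk p fun i =>
    ⟨(teichmuller p t * WittVector.map (toL φ) a.out).coeff i, scaled_mem p m φ ha t ht i⟩
  let Y : WittVector p O := WittVector.mk p fun i =>
    ⟨(teichmuller p t * WittVector.map (toL φ) b.out).coeff i, scaled_mem p m φ hb t ht i⟩
  have hX : WittVector.map O.subtype X = teichmuller p t * WittVector.map (toL φ) a.out := by
    ext n; simp [X, map_coeff]
  have hY : WittVector.map O.subtype Y = teichmuller p t * WittVector.map (toL φ) b.out := by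
    ext n; simp [Y, map_coeff]
  -- scaled powers
  have hscal : ∀ (z : B) (j : Fin m), (t ^ p ^ (j : ℕ) * toL φ z) ^ p ^ (m - 1 - (j : ℕ)) =
      toL φ (z ^ p ^ (m - 1 - (j : ℕ)) * c) := by
    intro z j
    rw [mul_pow, ← pow_mul, ← pow_add, show (j : ℕ) + (m - 1 - (j : ℕ)) = m - 1 by omega, ht, map_mul,
      map_pow, mul_comm]
  have htoL : ∀ a : A, toL φ (algebraMap A B a) = algebraMap A L a := by
    intro a
    show algebraMap (FractionRing A) L (φ (algebraMap A B a)) = _
    rw [AlgHom.commutes, ← IsScalarTower.algebraMap_apply]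
  -- congruence of the scaled coordinates
  have hXY : ∀ j : Fin m, X.coeff j - Y.coeff j ∈ P := by
    intro j
    obtain ⟨w, hw⟩ := h j
    refine Ideal.mem_radical_of_pow_mem (m := p ^ (m - 1 - (j : ℕ))) (Ideal.le_radical
      (Ideal.mem_span_singleton.2 ⟨⟨algebraMap A L w, isIntegral_algebraMap⟩, Subtype.ext ?_⟩))
    show ((teichmuller p t * WittVector.map (toL φ) a.out).coeff j -
        (teichmuller p t * WittVector.map (toL φ) b.out).coeff j) ^ p ^ (m - 1 - (j : ℕ)) =
      algebraMap A L π * algebraMap A L w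
    rw [teichmuller_mul_coeff, teichmuller_mul_coeff, map_coeff, map_coeff, sub_pow_char_pow,
      TruncatedWittVector.coeff_out, TruncatedWittVector.coeff_out, hscal, hscal, ← map_sub, hw, htoL, map_mul]
  intro j
  -- the difference has its scaled coordinates in `P`
  have hd : (X - Y).coeff j ∈ P := by
    have e : WittVector.truncate m (WittVector.map (Ideal.Quotient.mk P) (X - Y)) = 0 := by
      rw [map_sub, map_sub, sub_eq_zero]
      ext i
      rw [WittVector.coeff_truncate, WittVector.coeff_truncate, map_coeff, map_coeff]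
      exact Ideal.Quotient.eq.2 (hXY i)
    have := congrArg (TruncatedWittVector.coeff j) e
    rw [WittVector.coeff_truncate, map_coeff, TruncatedWittVector.coeff_zero] at this
    exact Ideal.Quotient.eq_zero_iff_mem.1 this
  have hsub : a - b = WittVector.truncate m (a.out - b.out) := by
    rw [map_sub]; congr 1 <;> exact (TruncatedWittVector.truncateFun_out _).symm
  rw [hsub, WittVector.coeff_truncate]
  have hval : ((X - Y).coeff j : L) = t ^ p ^ (j : ℕ) * toL φ ((a.out - b.out).coeff j) := by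
    calc ((X - Y).coeff j : L) = (WittVector.map O.subtype (X - Y)).coeff j := (map_coeff O.subtype (X - Y) j).symm
      _ = _ := by rw [map_sub, hX, hY, ← mul_sub, ← map_sub, teichmuller_mul_coeff, map_coeff]
  have hint : IsIntegral A (toL φ ((a.out - b.out).coeff j ^ p ^ (m - 1 - (j : ℕ)) * c)) := by
    rw [← hscal, ← hval]
    exact IsIntegral.pow ((X - Y).coeff j).2 _
  obtain ⟨w, hw⟩ := hcl _ ((isIntegral_toL_iff φ hφ _).1 hint)
  obtain ⟨N, hN⟩ := Ideal.mem_radical_iff.1 (Ideal.pow_mem_of_mem P hd _ (pow_pos hp.out.pos (m - 1 - (j : ℕ))))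
  rcases Ideal.mem_span_singleton.1 hN with ⟨η, hη⟩
  have hη' : algebraMap A L w ^ N = algebraMap A L π * (η : L) := by
    rw [← htoL, hw, ← hscal, ← hval]
    have := congrArg Subtype.val hη
    simpa using this
  let η' : B := algebraMap A B w ^ N * ((u⁻¹ : Bˣ) : B)
  have hη2 : toL φ η' = (η : L) := by
    have h1 : algebraMap A B π * η' = algebraMap A B w ^ N := by
      show algebraMap A B π * (algebraMap A B w ^ N * ((u⁻¹ : Bˣ) : B)) = _
      rw [← hu, mul_left_comm, Units.mul_inv, mul_one]
    have h2 := congrArg (toL φ) h1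
    rw [map_mul, htoL, map_pow, htoL, hη'] at h2
    exact mul_left_cancel₀ ((map_ne_zero_iff _ hALinj).2 hπ.ne_zero) h2
  obtain ⟨e, he⟩ := hcl η' ((isIntegral_toL_iff φ hφ _).1 (by rw [hη2]; exact η.2))
  have hdvd : π ∣ w := by
    refine hπ.dvd_of_dvd_pow (n := N) ⟨e, hALinj ?_⟩
    rw [map_mul, ← htoL e, he, hη2, map_pow, hη']
  obtain ⟨w', rfl⟩ := hdvd
  refine ⟨w', ?_⟩
  rw [← mul_assoc, ← hw, map_mul, ← hu, mul_comm, ← mul_assoc, Units.inv_mul, one_mul]

end Congr

section Away
variable {A B : Type u} [CommRing A] [IsDomain A] [CommRing B] [Algebra A B]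

theorem algebraMap_injective_away (f : A) (hf : f ≠ 0) [IsLocalization.Away f B] :
    Function.Injective (algebraMap A B) :=
  IsLocalization.injective B (M := Submonoid.powers f) (powers_le_nonZeroDivisors_of_noZeroDivisors hf)

/-- `A` is integrally closed in `A[1/π]` for a prime `π`. -/
theorem closed_away (π : A) (hπ : Prime π) [IsLocalization.Away π B] (b : B) (hb : IsIntegral A b) :
    b ∈ (algebraMap A B).range := by
  have hinj := algebraMap_injective_away (B := B) π hπ.ne_zero
  obtain ⟨n, a, ha⟩ := IsLocalization.Away.surj π b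
  induction n generalizing a with
  | zero => exact ⟨a, by rw [← ha, pow_zero, mul_one]⟩
  | succ n ih =>
    obtain ⟨f, hf, hev⟩ := hb
    have hev' : Polynomial.eval₂ (algebraMap A B) b f = 0 := hev
    have key : (f.scaleRoots (π ^ (n + 1))).eval a = 0 := by
      apply hinj
      rw [map_zero, ← Polynomial.eval₂_at_apply, ← ha, mul_comm b, ← map_pow]
      rw [Polynomial.scaleRoots_eval₂_mul, hev', mul_zero]
    have hdvd : π ∣ a ^ f.natDegree := by
      rw [Polynomial.eval_eq_sum_range, Polynomial.natDegree_scaleRoots, Finset.sum_range_succ] at key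
      rw [Polynomial.coeff_scaleRoots_natDegree, hf.leadingCoeff, one_mul] at key
      rw [eq_neg_of_add_eq_zero_right key]
      refine (Finset.dvd_sum fun i hi => ?_).neg_right
      rw [Polynomial.coeff_scaleRoots]
      refine Dvd.dvd.mul_right (Dvd.dvd.mul_left ?_ _) _
      rw [← pow_mul]
      exact dvd_pow_self π (Nat.mul_ne_zero (by omega) (by have := Finset.mem_range.1 hi; omega))
    obtain ⟨a', rfl⟩ := hπ.dvd_of_dvd_pow hdvd
    refine ih a' ?_
    rw [pow_succ', map_mul, mul_left_comm] at ha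
    exact (IsLocalization.Away.algebraMap_isUnit π).mul_right_inj.1 ha

end Away

end Groth.Agent.WittFilLib
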